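import Mathlib
import Cfsg.Agent.Lib.Helper44.FW.Defs

/-!
# Project FW (S3211): package [SWAP]
-/

set_option autoImplicit false

namespace Cfsg.Agent.Lib.Helper63.FW

open Cfsg.Agent.Lib.Helper44.FW

universe u

theorem pkgSwap : PkgSwap.{u} := by
  intro G _ j t₀ hj hH ht₀C ht₀2 ht₀1 ht₀j ⟨g, hgne, hgc⟩
  have hj2 : j ^ 2 = 1 := by rw [← hj]; exact pow_orderOf_eq_one j
  have hjj : j * j = 1 := by rw [← pow_two]; exact hj2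
  have hj1 : j ≠ 1 := by
    intro h; rw [h, orderOf_one] at hj; norm_num at hj
  have hmem : ∀ x : G, x ∈ Subgroup.centralizer ({j} : Set G) ↔ j * x = x * j := by
    intro x; rw [Subgroup.mem_centralizer_iff]; simp
  have htC : g * j * g⁻¹ ∈ Subgroup.centralizer ({j} : Set G) := (hmem _).mpr hgc.symm
  have ht2 : (g * j * g⁻¹) ^ 2 = 1 := by
    have : g * j * g⁻¹ * (g * j * g⁻¹) = g * (j * j) * g⁻¹ := by group
    rw [pow_two, this, hjj]; group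
  have ht1 : g * j * g⁻¹ ≠ 1 := by
    intro h; apply hj1
    have : j = g⁻¹ * (g * j * g⁻¹) * g := by group
    rw [this, h]; group
  obtain ⟨c, hc, hct⟩ := hH _ htC ht2 ht1 hgne t₀ ht₀C ht₀2 ht₀1 ht₀j
  obtain ⟨g₁, hg₁⟩ : ∃ g₁ : G, g₁ * j * g₁⁻¹ = t₀ := ⟨c * g, by rw [← hct]; group⟩
  have h1 : j * t₀ = t₀ * j := (hmem t₀).mp ht₀C
  have h2 : j = g₁⁻¹ * t₀ * g₁ := by rw [← hg₁]; group
  have haC : g₁⁻¹ * j * g₁ ∈ Subgroup.centralizer ({j} : Set G) := by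
    rw [hmem]
    have e1 : (g₁⁻¹ * t₀ * g₁) * (g₁⁻¹ * j * g₁) = g₁⁻¹ * (t₀ * j) * g₁ := by group
    have e2 : (g₁⁻¹ * j * g₁) * (g₁⁻¹ * t₀ * g₁) = g₁⁻¹ * (j * t₀) * g₁ := by group
    rw [← h2] at e1 e2
    rw [e1, e2, h1]
  have ha2 : (g₁⁻¹ * j * g₁) ^ 2 = 1 := by
    have : g₁⁻¹ * j * g₁ * (g₁⁻¹ * j * g₁) = g₁⁻¹ * (j * j) * g₁ := by group
    rw [pow_two, this, hjj]; group
  have ha1 : g₁⁻¹ * j * g₁ ≠ 1 := by
    intro h; apply hj1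
    have : j = g₁ * (g₁⁻¹ * j * g₁) * g₁⁻¹ := by group
    rw [this, h]; group
  have haj : g₁⁻¹ * j * g₁ ≠ j := by
    intro h; apply ht₀j
    calc t₀ = g₁ * j * g₁⁻¹ := hg₁.symm
      _ = g₁ * (g₁⁻¹ * j * g₁) * g₁⁻¹ := by rw [h]
      _ = j := by group
  obtain ⟨c', hc', hc't⟩ := hH t₀ ht₀C ht₀2 ht₀1 ht₀j _ haC ha2 ha1 haj
  have h3 : c' * j * c'⁻¹ = j := by
    rw [← (hmem c').mp hc']; group
  refine ⟨g₁ * c', ?_, ?_⟩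
  · calc g₁ * c' * j * (g₁ * c')⁻¹ = g₁ * (c' * j * c'⁻¹) * g₁⁻¹ := by group
      _ = t₀ := by rw [h3, hg₁]
  · calc g₁ * c' * t₀ * (g₁ * c')⁻¹ = g₁ * (c' * t₀ * c'⁻¹) * g₁⁻¹ := by group
      _ = j := by rw [hc't]; group

end Cfsg.Agent.Lib.Helper63.FW
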